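import Groth.Agent.Curves1.Node.NodalMax
import Groth.Agent.SpinCurv.PolyNode
import Groth.Prelude.Def_StrictSS

/-!
# The line and node models are nodal families
-/

universe u

open CategoryTheory AlgebraicGeometry IsLocalRing MvPolynomial Groth.Curves1.Node

namespace Groth.PlaneCurve.StrictSS

attribute [local instance] Curv2.resAlgebra Curv2.stalkAlgebra

/-- On a chart cut out by `n` equations in `n + 1` variables whose singular scheme is a section, all
points are smooth or nodes. -/
theorem mem_nodalSet_of_presentation {X S : Scheme.{u}} (f : X ⟶ S) [LocallyOfFinitePresentation f]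
    {V : S.Opens} (hV : IsAffineOpen V) {U : X.Opens} (hU : IsAffineOpen U) (e : U ≤ f ⁻¹ᵁ V) {n : ℕ} :
    letI := (f.appLE V U e).hom.toAlgebra
    ∀ (φ : MvPolynomial (Fin (n + 1)) Γ(S, V) →ₐ[Γ(S, V)] Γ(X, U)), Function.Surjective φ →
      ∀ (g : Fin n → MvPolynomial (Fin (n + 1)) Γ(S, V)), (∀ i, φ (g i) = 0) →
      (∀ x, φ x = 0 → x ∈ Ideal.span (Set.range g)) →
      (∀ z, ∃ r, z - algebraMap Γ(S, V) Γ(X, U) r ∈ (jacMinors g).map φ) →
      ∀ y ∈ U, y ∈ nodalSet f := by
  classical
  let := (f.appLE V U e).hom.toAlgebra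
  intro φ hφ g hg hker hsec y hy
  let : (f.fiber (f y)).Over (Spec (CommRingCat.of (S.residueField (f y)))) :=
    ⟨f.fiberToSpecResidueField (f y)⟩
  have : LocallyOfFiniteType ((f.fiber (f y)) ↘ (Spec (CommRingCat.of (S.residueField (f y))))) :=
    inferInstanceAs (LocallyOfFiniteType (Limits.pullback.snd f (S.fromSpecResidueField (f y))))
  have hw : f.fiberι (f y) (f.asFiber y) ∈ U := by rwa [f.fiberι_asFiber]
  have := isNoetherianRing_stalk (k := S.residueField (f y)) (f.asFiber y)
  have hρ := isFibreLocal_toFibreStalk f hV hU e (e hy) _ hw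
  set ρ := (toFibreStalk f (f.asFiber y) hw).hom
  have hh1 : ∀ x, φ x = 0 → 1 * x ∈ Ideal.span (Set.range g) := fun x hx => by
    rw [one_mul]; exact hker x hx
  by_cases hJ : ((jacMinors g).map φ).map ρ ≤ maximalIdeal ((f.fiber (f y)).presheaf.stalk (f.asFiber y))
  · right
    refine (isFibreNode_iff_isNodeRing f _).2 ((hρ.isNodeRing_iff φ hφ g hg 1 hh1 (by simp)).2 ⟨?_, ?_⟩)
    · have hsurj : Function.Surjective (algebraMap (S.residueField (f y)) (ResidueField ((f.fiber (f y)).presheaf.stalk (f.asFiber y)))) := by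
        intro c
        obtain ⟨a, rfl⟩ := residue_surjective c
        obtain ⟨b, b', hb, hbc⟩ := hρ.frac a
        obtain ⟨r, hr⟩ := hsec b
        obtain ⟨r', hr'⟩ := hsec b'
        have key : ∀ z s, z - algebraMap Γ(S, V) Γ(X, U) s ∈ (jacMinors g).map φ →
            residue ((f.fiber (f y)).presheaf.stalk (f.asFiber y)) (ρ z) = algebraMap (S.residueField (f y)) (ResidueField ((f.fiber (f y)).presheaf.stalk (f.asFiber y))) ((S.evaluation V (f y) (e hy)).hom s) := by
          intro z s hzs
          have h1 := hJ (Ideal.mem_map_of_mem ρ hzs)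
          rw [map_sub, hρ.comm, ← residue_eq_zero_iff, map_sub, sub_eq_zero] at h1
          rw [h1, IsScalarTower.algebraMap_apply (S.residueField (f y)) ((f.fiber (f y)).presheaf.stalk (f.asFiber y)) (ResidueField ((f.fiber (f y)).presheaf.stalk (f.asFiber y)))]
          rfl
        have hne : (S.evaluation V (f y) (e hy)).hom r ≠ 0 := fun h0 => by
          have := hb.map (residue ((f.fiber (f y)).presheaf.stalk (f.asFiber y)))
          rw [key b r hr, h0, map_zero] at this
          exact not_isUnit_zero this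
        refine ⟨(S.evaluation V (f y) (e hy)).hom r' / (S.evaluation V (f y) (e hy)).hom r, ?_⟩
        rw [map_div₀, ← key b r hr, ← key b' r' hr', ← hbc, map_mul,
          mul_div_cancel_right₀ _ (hb.map (residue ((f.fiber (f y)).presheaf.stalk (f.asFiber y)))).ne_zero]
      exact Algebra.IsSeparable.of_algHom (S.residueField (f y)) (S.residueField (f y)) (AlgEquiv.ofBijective (Algebra.ofId (S.residueField (f y)) (ResidueField ((f.fiber (f y)).presheaf.stalk (f.asFiber y))))
        ⟨(algebraMap (S.residueField (f y)) (ResidueField ((f.fiber (f y)).presheaf.stalk (f.asFiber y)))).injective, hsurj⟩).symm.toAlgHom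
    · refine le_antisymm hJ fun a ha => ?_
      obtain ⟨b, b', hb, hbc⟩ := hρ.frac a
      refine (Ideal.mul_unit_mem_iff_mem _ hb).1 ?_
      rw [hbc]
      obtain ⟨r, hr⟩ := hsec b'
      have h1 := Ideal.mem_map_of_mem ρ hr
      have hb' : ρ b' ∈ maximalIdeal ((f.fiber (f y)).presheaf.stalk (f.asFiber y)) := hbc ▸ Ideal.mul_mem_right _ _ ha
      rw [map_sub, hρ.comm] at h1
      have h0 : algebraMap (S.residueField (f y)) ((f.fiber (f y)).presheaf.stalk (f.asFiber y)) ((S.evaluation V (f y) (e hy)).hom r) ∈ maximalIdeal ((f.fiber (f y)).presheaf.stalk (f.asFiber y)) := by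
        simpa using sub_mem hb' (hJ h1)
      have hr0 : (S.evaluation V (f y) (e hy)).hom r = 0 := by
        by_contra hne
        exact (mem_maximalIdeal _).1 h0 ((Ne.isUnit hne).map _)
      rwa [hr0, map_zero, sub_zero] at h1
  · left
    obtain ⟨γ, hγ⟩ : ∃ γ : Fin n → Fin (n + 1),
        IsUnit (ρ (φ (Matrix.of fun i j => pderiv (γ j) (g i)).det)) := by
      by_contra hall
      push Not at hall
      refine hJ (Ideal.map_le_iff_le_comap.2 (Ideal.map_le_iff_le_comap.2 ?_))
      rw [jacMinors, Ideal.span_le]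
      rintro _ ⟨γ, rfl⟩
      exact (mem_maximalIdeal _).2 (hall γ)
    have hinj : Function.Injective γ := by
      intro a b hab
      by_contra hne
      rw [Matrix.det_zero_of_column_eq hne fun i => by simp [hab], map_zero, map_zero] at hγ
      exact not_isUnit_zero hγ
    set a := φ (1 * (Matrix.of fun i j => pderiv (γ j) (g i)).det) with hadef
    have hya : y ∈ X.basicOpen a := by
      rw [X.mem_basicOpen _ y hy]
      have hγ' : IsUnit (ρ a) := by rw [hadef, one_mul]; exact hγ
      have h3 : IsUnit (X.presheaf.germ U _ hw a) :=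
        isUnit_of_map_unit ((f.fiberι (f y)).stalkMap (f.asFiber y)).hom _ hγ'
      rw [← X.mem_basicOpen _ _ hw] at h3
      rw [← X.mem_basicOpen _ _ hy]
      exact f.fiberι_asFiber y ▸ h3
    refine ⟨V, hV, X.basicOpen a, hU.basicOpen a, hya, (X.basicOpen_le a).trans e, ?_⟩
    let := (f.appLE V (X.basicOpen a) ((X.basicOpen_le a).trans e)).hom.toAlgebra
    have : IsScalarTower Γ(S, V) Γ(X, U) Γ(X, X.basicOpen a) :=
      IsScalarTower.of_algebraMap_eq fun r => by
        show f.appLE V (X.basicOpen a) _ r = X.presheaf.map _ (f.appLE V U e r)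
        rw [← CommRingCat.comp_apply, Scheme.Hom.appLE_map]
    have : IsLocalization.Away a Γ(X, X.basicOpen a) := hU.isLocalization_basicOpen a
    have := isStandardSmooth_away_minor φ hφ g hg 1 hh1 γ hinj
    show Algebra.IsStandardSmoothOfRelativeDimension 1 Γ(S, V) Γ(X, X.basicOpen a)
    exact Algebra.IsStandardSmoothOfRelativeDimension.of_algEquiv 1
      ((Localization.algEquiv (Submonoid.powers a) Γ(X, X.basicOpen a)).restrictScalars Γ(S, V))

/-- A flat algebra cut out by `n` equations in `n + 1` variables whose singular scheme is a section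
gives a nodal family. -/
theorem nodalSet_of_presentation {A B : Type u} [CommRing A] [CommRing B] [Algebra A B] {n : ℕ}
    (φ : MvPolynomial (Fin (n + 1)) A →ₐ[A] B) (hφ : Function.Surjective φ)
    (g : Fin n → MvPolynomial (Fin (n + 1)) A) (hg : ∀ i, φ (g i) = 0)
    (hker : ∀ x, φ x = 0 → x ∈ Ideal.span (Set.range g))
    (hsec : ∀ z, ∃ r, z - algebraMap A B r ∈ (jacMinors g).map φ)
    [LocallyOfFinitePresentation (Spec.map (CommRingCat.ofHom (algebraMap A B)))]
    (y : Spec (CommRingCat.of B)) : y ∈ nodalSet (Spec.map (CommRingCat.ofHom (algebraMap A B))) := by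
  set f := Spec.map (CommRingCat.ofHom (algebraMap A B))
  let ιA := (Scheme.ΓSpecIso (CommRingCat.of A)).commRingCatIsoToRingEquiv
  let ιB := (Scheme.ΓSpecIso (CommRingCat.of B)).commRingCatIsoToRingEquiv
  let := (f.appLE ⊤ ⊤ le_top).hom.toAlgebra
  have hcomp : ∀ r, algebraMap Γ(Spec (CommRingCat.of A), ⊤) Γ(Spec (CommRingCat.of B), ⊤) r =
      ιB.symm (algebraMap A B (ιA r)) := fun r => by
    refine (ιB.eq_symm_apply).2 ?_
    have h0 : f.appLE ⊤ ⊤ le_top = f.appTop := Scheme.Hom.appLE_eq_app f
    show ιB ((f.appLE ⊤ ⊤ le_top).hom r) = _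
    rw [h0]
    exact RingHom.congr_fun (congrArg CommRingCat.Hom.hom
      (Scheme.ΓSpecIso_naturality (CommRingCat.ofHom (algebraMap A B)))) r
  let φ' : MvPolynomial (Fin (n + 1)) Γ(Spec (CommRingCat.of A), ⊤) →ₐ[Γ(Spec (CommRingCat.of A), ⊤)]
      Γ(Spec (CommRingCat.of B), ⊤) := aeval fun i => ιB.symm (φ (X i))
  have hφ' : ∀ F, φ' F = ιB.symm (φ (map ιA.toRingHom F)) := fun F => by
    induction F using MvPolynomial.induction_on with
    | C r =>
      rw [← algebraMap_eq, AlgHom.commutes, hcomp, algebraMap_eq, map_C, ← algebraMap_eq,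
        AlgHom.commutes]
      rfl
    | add P Q hP hQ => simp only [map_add, hP, hQ]
    | mul_X P i hP => simp only [map_mul, hP]; simp [φ']
  have hrt : ∀ F : MvPolynomial (Fin (n + 1)) Γ(Spec (CommRingCat.of A), ⊤),
      map ιA.symm.toRingHom (map ιA.toRingHom F) = F := fun F => by
    rw [map_map, show ιA.symm.toRingHom.comp ιA.toRingHom = RingHom.id _ from
      RingHom.ext fun r => ιA.symm_apply_apply r, map_id]
  have hrt' : ∀ F : MvPolynomial (Fin (n + 1)) A,
      map ιA.toRingHom (map ιA.symm.toRingHom F) = F := fun F => by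
    rw [map_map, show ιA.toRingHom.comp ιA.symm.toRingHom = RingHom.id _ from
      RingHom.ext fun r => ιA.apply_symm_apply r, map_id]
  refine mem_nodalSet_of_presentation f (isAffineOpen_top _) (isAffineOpen_top _) le_top φ'
    (fun z => ?_) (fun i => map ιA.symm.toRingHom (g i)) (fun i => ?_) (fun x hx => ?_) (fun z => ?_)
    y trivial
  · obtain ⟨F, hF⟩ := hφ (ιB z)
    exact ⟨map ιA.symm.toRingHom F, by rw [hφ', hrt', hF, ιB.symm_apply_apply]⟩
  · rw [hφ', hrt', hg, map_zero]
  · rw [hφ', EmbeddingLike.map_eq_zero_iff] at hx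
    have h1 := Ideal.mem_map_of_mem (map ιA.symm.toRingHom) (hker _ hx)
    rw [Ideal.map_span, ← Set.range_comp, hrt] at h1
    exact h1
  · obtain ⟨r, hr⟩ := hsec (ιB z)
    refine ⟨ιA.symm r, ?_⟩
    have h1 := Ideal.mem_map_of_mem ιB.symm.toRingHom hr
    have h2 : ((jacMinors g).map φ).map ιB.symm.toRingHom =
        (jacMinors fun i => map ιA.symm.toRingHom (g i)).map φ' := by
      rw [← map_jacMinors, ← Ideal.map_coe φ, ← Ideal.map_coe φ', Ideal.map_map, Ideal.map_map]
      congr 1
      refine RingHom.ext fun F => ?_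
      show ιB.symm (φ F) = φ' (map ιA.symm.toRingHom F)
      rw [hφ', hrt']
    rw [h2] at h1
    convert h1 using 1
    show z - _ = ιB.symm (ιB z - algebraMap A B r)
    rw [map_sub, ιB.symm_apply_apply, hcomp, ιA.apply_symm_apply]

variable (A : Type u) [CommRing A]

theorem node_ker {a : A} (x : MvPolynomial (Fin 2) A)
    (hx : (Ideal.Quotient.mkₐ A (Ideal.span {(X 0 * X 1 - C a : MvPolynomial (Fin 2) A)})) x = 0) :
    x ∈ Ideal.span (Set.range fun _ : Fin 1 => (X 0 * X 1 - C a : MvPolynomial (Fin 2) A)) := by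
  rw [Set.range_const]
  exact Ideal.Quotient.eq_zero_iff_mem.1 hx

theorem locallyOfFinitePresentation_node (a : A) :
    LocallyOfFinitePresentation (_root_.StrictSS.nodeToBase A a) := by
  have : Algebra.FinitePresentation A (_root_.StrictSS.NodeAlg A a) :=
    Algebra.FinitePresentation.quotient ⟨{X 0 * X 1 - C a}, by simp⟩
  exact (HasRingHomProperty.Spec_iff (P := @LocallyOfFinitePresentation)).2
    (RingHom.finitePresentation_algebraMap.2 this)

theorem flat_node (a : A) : Flat (_root_.StrictSS.nodeToBase A a) := by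
  have : Module.Free A (_root_.StrictSS.NodeAlg A a) :=
    Module.Free.of_equiv (Groth.SpinCurv.coordEquiv a).symm
  exact (HasRingHomProperty.Spec_iff (P := @Flat)).2 (RingHom.flat_algebraMap_iff.2 inferInstance)

/-- The node model is a nodal family. -/
theorem isNodalFamily_node (a : A) : Curv2.IsNodalFamily (_root_.StrictSS.nodeToBase A a) := by
  have := flat_node A a
  have := locallyOfFinitePresentation_node A a
  rw [isNodalFamily_iff_nodalSet]
  let φ := Ideal.Quotient.mkₐ A (Ideal.span {(X 0 * X 1 - C a : MvPolynomial (Fin 2) A)})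
  let g := fun _ : Fin 1 => (X 0 * X 1 - C a : MvPolynomial (Fin 2) A)
  refine fun y => nodalSet_of_presentation φ (Ideal.Quotient.mkₐ_surjective A _) g
    (fun _ => Ideal.Quotient.eq_zero_iff_mem.2 (Ideal.subset_span rfl)) (node_ker A) (fun z => ?_) y
  obtain ⟨F, rfl⟩ := Ideal.Quotient.mkₐ_surjective A (Ideal.span {(X 0 * X 1 - C a : MvPolynomial (Fin 2) A)}) z
  have hX : ∀ j : Fin 2, (X j : MvPolynomial (Fin 2) A) ∈ jacMinors g := by
    intro j
    refine Ideal.subset_span ⟨fun _ => if j = 0 then 1 else 0, ?_⟩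
    fin_cases j <;> simp [g, Matrix.det_fin_one, Matrix.det_unique, pderiv_X, Pi.single_apply]
  refine ⟨constantCoeff F, ?_⟩
  have h : F - C (constantCoeff F) ∈ jacMinors g := by
    induction F using MvPolynomial.induction_on with
    | C r => simp
    | add P Q hP hQ =>
      have : P + Q - C (constantCoeff (P + Q)) =
          (P - C (constantCoeff P)) + (Q - C (constantCoeff Q)) := by simp only [map_add]; ring
      rw [this]; exact add_mem hP hQ
    | mul_X P j hP =>
      simp only [map_mul, constantCoeff_X, mul_zero, map_zero, sub_zero]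
      exact Ideal.mul_mem_left _ _ (hX j)
  have h2 := Ideal.mem_map_of_mem φ h
  rw [map_sub] at h2
  rwa [show φ (C (constantCoeff F)) = algebraMap A _ (constantCoeff F) from φ.commutes _] at h2

/-- The coordinate of the line. -/
noncomputable def lineCoord : MvPolynomial (Fin 1) A →ₐ[A] Polynomial A := aeval fun _ => Polynomial.X

theorem lineCoord_bijective : Function.Bijective (lineCoord A) := by
  let ψ : Polynomial A →ₐ[A] MvPolynomial (Fin 1) A := Polynomial.aeval (X 0)
  refine ⟨Function.LeftInverse.injective (g := ψ) fun F => ?_, fun P => ⟨ψ P, ?_⟩⟩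
  · exact AlgHom.congr_fun (show ψ.comp (lineCoord A) = AlgHom.id A _ from
      MvPolynomial.algHom_ext fun i => by fin_cases i; simp [ψ, lineCoord]) F
  · exact AlgHom.congr_fun (show (lineCoord A).comp ψ = AlgHom.id A _ from
      Polynomial.algHom_ext (by simp [ψ, lineCoord])) P

/-- The line model is smooth of relative dimension one. -/
theorem smoothOfRelativeDimension_line :
    SmoothOfRelativeDimension 1 (_root_.StrictSS.lineToBase A) := by
  classical
  have h := isStandardSmooth_away_minor (lineCoord A) (lineCoord_bijective A).2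
    (fun i : Fin 0 => i.elim0) (fun i => i.elim0) 1 (fun x hx => by
      rw [(lineCoord_bijective A).1 (hx.trans (map_zero (lineCoord A)).symm), mul_zero]
      exact zero_mem _) (fun i => i.elim0) (fun i => i.elim0)
  have h' : Algebra.IsStandardSmoothOfRelativeDimension 1 A (Polynomial A) := by
    rw [show ∀ M : Matrix (Fin 0) (Fin 0) (MvPolynomial (Fin 1) A), lineCoord A (1 * M.det) = 1 from
      fun M => by simp] at h
    exact Algebra.IsStandardSmoothOfRelativeDimension.of_algEquiv 1
      ((IsLocalization.atUnit (Polynomial A) (Localization.Away (1 : Polynomial A)) 1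
        isUnit_one).symm.restrictScalars A)
  exact (HasRingHomProperty.Spec_iff (P := @SmoothOfRelativeDimension 1)).2
    (RingHom.locally_of RingHom.isStandardSmoothOfRelativeDimension_respectsIso _
      (RingHom.isStandardSmoothOfRelativeDimension_algebraMap 1 |>.2 h'))

theorem line_isSmoothOneAt (y : Spec (CommRingCat.of (Polynomial A))) :
    IsSmoothOneAt (_root_.StrictSS.lineToBase A) y := by
  have := smoothOfRelativeDimension_line A
  obtain ⟨U, hU, V, hV, hx, e, hf⟩ :=
    SmoothOfRelativeDimension.exists_isStandardSmoothOfRelativeDimension (n := 1)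
      (f := _root_.StrictSS.lineToBase A) y
  exact ⟨U, hU, V, hV, hx, e, hf⟩

end Groth.PlaneCurve.StrictSS
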