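import Mathlib
import Groth.Agent.PlaneCurve.StrictSS.Models
import Groth.Agent.Agf.RegularPoints
import Groth.Agent.PropsBasic2.Reduced
import Groth.Agent.Variety2.Normal
import Groth.Agent.Ega4Algebra1.RegularLocal

/-!
Irreducible components of strictly semistable curves over a field are smooth.
-/

set_option autoImplicit false

universe u

open CategoryTheory CategoryTheory.Limits AlgebraicGeometry TopologicalSpace

namespace Groth.PlaneCurve.StrictSS

/-- The spectrum of a field has regular stalks. -/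
theorem isRegularLocalRing_stalk_Spec_field (k : Type u) [Field k] (s : Spec (CommRingCat.of k)) :
    IsRegularLocalRing ((Spec (CommRingCat.of k)).presheaf.stalk s) := by
  haveI : IsRegularRing k := inferInstance
  exact IsRegularLocalRing.of_ringEquiv (R := Localization.AtPrime s.asIdeal)
    (AlgebraicGeometry.StructureSheaf.stalkIso k s).toRingEquiv

/-- Schemes smooth over a field have domains as local rings. -/
theorem isDomain_stalk {k : Type u} [Field k] {P : Scheme.{u}} (f : P ⟶ Spec (CommRingCat.of k)) [Smooth f]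
    (p : P) : IsDomain (P.presheaf.stalk p) := by
  haveI := isRegularLocalRing_stalk_Spec_field k (f p)
  haveI := Groth.Agf.RegularPoints.isRegularLocalRing_stalk_of_smooth f p
  exact Groth.Ega4Algebra1.isDomain_of_isRegularLocalRing _

/-- An irreducible component lying, near each of its points, in a smooth closed subscheme is smooth. -/
theorem smooth_of_closed_smooth {k : Type u} [Field k] {C : Scheme.{u}} (φ : C ⟶ Spec (CommRingCat.of k))
    [LocallyOfFiniteType φ] [QuasiCompact φ]
    (Z : Set C) (hZ : Z ∈ irreducibleComponents (C : Type u)) {W : Scheme.{u}} (e : W ⟶ C)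
    [IsClosedImmersion e] [IsReduced W] (hW : Set.range e.base = Z)
    (h : ∀ x ∈ Z, ∃ (U : C.Opens) (P : Scheme.{u}) (q : P ⟶ (U : Scheme.{u})), x ∈ U ∧ IsClosedImmersion q ∧
      Smooth (q ≫ U.ι ≫ φ) ∧ ∀ η : U, closure {U.ι.base η} = Z → η ∈ Set.range q.base) :
    Smooth (e ≫ φ) := by
  have hZc : IsClosed Z := isClosed_of_mem_irreducibleComponents Z hZ
  haveI : IsLocallyNoetherian C := LocallyOfFiniteType.isLocallyNoetherian φ
  haveI : CompactSpace C := (quasiCompact_iff_compactSpace (f := φ) |>.1 inferInstance)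
  haveI : AlgebraicGeometry.IsNoetherian C := {}
  choose U₀ P₀ q₀ hU₀ hq₀ hsm₀ hη₀ using h
  have hmem : ∀ w : W, e.base w ∈ Z := fun w => hW ▸ ⟨w, rfl⟩
  have hcov : TopologicalSpace.IsOpenCover (fun w : W => e ⁻¹ᵁ U₀ (e.base w) (hmem w)) :=
    TopologicalSpace.IsOpenCover.mk (eq_top_iff.2 fun w _ => Opens.mem_iSup.2 ⟨w, hU₀ _ (hmem w)⟩)
  refine (IsZariskiLocalAtSource.iff_of_openCover (P := @Smooth) (W.openCoverOfIsOpenCover _ hcov)).2 fun w => ?_
  have hxZ := hmem w
  change Smooth ((e ⁻¹ᵁ U₀ (e.base w) hxZ).ι ≫ e ≫ φ)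
  have hxU := hU₀ _ hxZ
  have hq := hq₀ _ hxZ
  have hsm := hsm₀ _ hxZ
  have hη := hη₀ _ hxZ
  generalize q₀ (e.base w) hxZ = q at hq hsm hη
  clear hq₀ hsm₀ hη₀
  generalize P₀ (e.base w) hxZ = P at q hq hsm hη
  generalize U₀ (e.base w) hxZ = U at q hq hsm hη hxU ⊢
  -- the generic point of the component lies in the chart
  have hη0 := hZ.1.isGenericPoint_genericPoint hZc
  set η₀ := hZ.1.genericPoint
  have hηU : η₀ ∈ U := hη0.mem_open_set_iff U.2 |>.2 ⟨e.base w, hxZ, hxU⟩
  obtain ⟨p₀, hp₀⟩ := hη ⟨η₀, hηU⟩ (by exact hη0)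
  -- the component of `P` through it
  haveI : NoetherianSpace P := (U.ι.isOpenEmbedding.isInducing.comp q.isClosedEmbedding.isInducing).noetherianSpace
  have hmax : closure ({p₀} : Set P) ∈ irreducibleComponents P := by
    refine ⟨isIrreducible_singleton.closure, fun T hT hle => ?_⟩
    intro t ht
    obtain ⟨g, hg⟩ : ∃ g, IsGenericPoint g (closure T) := QuasiSober.sober hT.closure isClosed_closure
    have h1 : g ⤳ p₀ := hg.specializes (subset_closure (hle (subset_closure rfl)))
    have h2 : U.ι.base (q.base g) ⤳ η₀ := by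
      have h2' := (h1.map q.base.hom.continuous).map U.ι.base.hom.continuous
      rwa [hp₀] at h2'
    have h3 : Z ⊆ closure {U.ι.base (q.base g)} := by
      rw [← hη0.def]
      exact closure_minimal (Set.singleton_subset_iff.2 h2.mem_closure) isClosed_closure
    have h4 : U.ι.base (q.base g) ∈ Z := hZ.2 isIrreducible_singleton.closure h3 (subset_closure rfl)
    have h5 : η₀ ⤳ U.ι.base (q.base g) := hη0.specializes h4
    have h6 : p₀ ⤳ g := by
      rw [← q.isClosedEmbedding.isInducing.specializes_iff, ← U.ι.isOpenEmbedding.isInducing.specializes_iff,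
        hp₀]
      exact h5
    exact (closure_minimal (Set.singleton_subset_iff.2 h6.mem_closure) isClosed_closure)
      (hg.specializes (subset_closure ht)).mem_closure
  haveI := hsm
  let V : P.Opens := ⟨closure {p₀}, Groth.Variety2.isOpen_irreducibleComponents
    (fun p => isDomain_stalk (q ≫ U.ι ≫ φ) p) hmax⟩
  haveI : IsClosedImmersion (V.ι) := IsClosedImmersion.of_isPreimmersion _ (by
    rw [Scheme.Opens.range_ι]; exact isClosed_closure)
  haveI := hq
  haveI : IsClosedImmersion (e ∣_ U) := IsZariskiLocalAtTarget.restrict (P := @IsClosedImmersion) ‹IsClosedImmersion e› U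
  haveI : Smooth (V.ι ≫ q ≫ U.ι ≫ φ) := inferInstance
  haveI : IsReduced V := by
    haveI : ∀ p : P, _root_.IsReduced (P.presheaf.stalk p) := fun p => by
      haveI := isDomain_stalk (q ≫ U.ι ≫ φ) p
      infer_instance
    haveI : IsReduced P := isReduced_of_isReduced_stalk P
    exact isReduced_of_isOpenImmersion V.ι
  haveI : IsReduced (e ⁻¹ᵁ U : W.Opens) := isReduced_of_isOpenImmersion (e ⁻¹ᵁ U).ι
  have hrange : Set.range (e ∣_ U) = Set.range (V.ι ≫ q) := by
    apply Set.image_injective.2 (U.ι.isOpenEmbedding.injective)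
    have h1 : U.ι '' Set.range (e ∣_ U) = Z ∩ U := by
      rw [← Set.range_comp]
      show Set.range (fun y => U.ι ((e ∣_ U) y)) = _
      simp only [← Scheme.Hom.comp_apply, morphismRestrict_ι]
      rw [Scheme.Hom.comp_base, TopCat.coe_comp, Set.range_comp, Scheme.Opens.range_ι]
      show e.base '' (e.base ⁻¹' U) = _
      rw [Set.image_preimage_eq_range_inter, hW]
    have h2 : U.ι '' Set.range (V.ι ≫ q) = Z ∩ U := by
      rw [Scheme.Hom.comp_base, TopCat.coe_comp, Set.range_comp, Scheme.Opens.range_ι]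
      show U.ι.base '' (q.base '' closure {p₀}) = _
      rw [← q.isClosedEmbedding.closure_image_eq, Set.image_singleton, hp₀,
        U.ι.isOpenEmbedding.isInducing.closure_eq_preimage_closure_image, Set.image_singleton,
        Set.image_preimage_eq_range_inter, Scheme.Opens.range_ι, Set.inter_comm]
      show closure {η₀} ∩ _ = _
      rw [hη0.def]
    exact h1.trans h2.symm
  obtain ⟨E, hE⟩ := Groth.PropsBasic2.exists_iso_of_range_eq (e ∣_ U) (V.ι ≫ q) hrange
  rw [← morphismRestrict_ι_assoc e U φ, ← hE]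
  simp only [Category.assoc]
  infer_instance

section models

open MvPolynomial Groth.Curves1.Node

variable (A : Type u) [CommRing A]

/-- The two axes of the node of thickness zero. -/
noncomputable def axisHom (i : Fin 2) : _root_.StrictSS.NodeAlg A 0 →ₐ[A] Polynomial A :=
  Ideal.Quotient.liftₐ _ (MvPolynomial.aeval fun j => if j = i then (0 : Polynomial A) else Polynomial.X)
    (fun x hx => by
      obtain ⟨c, rfl⟩ := Ideal.mem_span_singleton.1 hx
      fin_cases i <;> simp)

theorem axisHom_mk (i : Fin 2) (F : MvPolynomial (Fin 2) A) :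
    axisHom A i (Ideal.Quotient.mk _ F) =
      MvPolynomial.aeval (fun j => if j = i then (0 : Polynomial A) else Polynomial.X) F := rfl

theorem axisHom_surjective (i : Fin 2) : Function.Surjective (axisHom A i) := fun P => by
  refine ⟨Ideal.Quotient.mk _ (Polynomial.aeval (X (i + 1)) P), ?_⟩
  rw [axisHom_mk, ← Polynomial.aeval_algHom_apply, MvPolynomial.aeval_X, if_neg (by fin_cases i <;> decide)]
  exact Polynomial.aeval_X_left_apply P

theorem ker_axisHom_le (i : Fin 2) :
    RingHom.ker (axisHom A i).toRingHom ≤ Ideal.span {Ideal.Quotient.mk _ (X i)} := by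
  intro z hz
  obtain ⟨F, rfl⟩ := Ideal.Quotient.mk_surjective z
  set J : Ideal (_root_.StrictSS.NodeAlg A 0) := Ideal.span {Ideal.Quotient.mk _ (X i)}
  let m : MvPolynomial (Fin 2) A →ₐ[A] _root_.StrictSS.NodeAlg A 0 ⧸ J :=
    (Ideal.Quotient.mkₐ A J).comp (Ideal.Quotient.mkₐ A _)
  have h : m = (Polynomial.aeval (m (X (i + 1)))).comp
      (MvPolynomial.aeval fun j => if j = i then (0 : Polynomial A) else Polynomial.X) := by
    refine MvPolynomial.algHom_ext fun j => ?_
    rw [AlgHom.comp_apply (Polynomial.aeval (m (X (i + 1)))), MvPolynomial.aeval_X]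
    by_cases hj : j = i
    · simp only [if_pos hj, map_zero]
      subst hj
      exact Ideal.Quotient.eq_zero_iff_mem.2 (Ideal.subset_span rfl)
    · rw [if_neg hj, Polynomial.aeval_X, show j = i + 1 by fin_cases i <;> fin_cases j <;> simp_all]
  refine Ideal.Quotient.eq_zero_iff_mem.1 ?_
  show m F = 0
  rw [h, AlgHom.comp_apply]
  change axisHom A i (Ideal.Quotient.mk _ F) = 0 at hz
  rw [axisHom_mk] at hz
  exact (congrArg _ hz).trans (map_zero _)

theorem axes_cover (y : Spec (CommRingCat.of (_root_.StrictSS.NodeAlg A 0))) :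
    ∃ i : Fin 2, y ∈ Set.range (Spec.map (CommRingCat.ofHom (axisHom A i).toRingHom)).base := by
  have h0 : (Ideal.Quotient.mk _ (X 0) : _root_.StrictSS.NodeAlg A 0) * Ideal.Quotient.mk _ (X 1) = 0 := by
    rw [← map_mul, Ideal.Quotient.eq_zero_iff_mem]
    exact Ideal.mem_span_singleton.2 ⟨1, by simp⟩
  have key : ∀ i : Fin 2, (Ideal.Quotient.mk _ (X i) : _root_.StrictSS.NodeAlg A 0) ∈ y.asIdeal →
      y ∈ Set.range (Spec.map (CommRingCat.ofHom (axisHom A i).toRingHom)).base := fun i hi => by
    show y ∈ Set.range (PrimeSpectrum.comap (axisHom A i).toRingHom)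
    rw [_root_.range_comap_of_surjective _ _ (axisHom_surjective A i)]
    exact (PrimeSpectrum.mem_zeroLocus _ _).2 ((ker_axisHom_le A i).trans ((Ideal.span_singleton_le_iff_mem _).2 hi))
  rcases y.2.mem_or_mem (h0 ▸ y.asIdeal.zero_mem) with h | h
  exacts [⟨0, key 0 h⟩, ⟨1, key 1 h⟩]

theorem axisHom_toBase (i : Fin 2) :
    Spec.map (CommRingCat.ofHom (axisHom A i).toRingHom) ≫ _root_.StrictSS.nodeToBase A 0 =
      _root_.StrictSS.lineToBase A := by
  rw [← Spec.map_comp, ← CommRingCat.ofHom_comp]
  congr 2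
  exact (axisHom A i).comp_algebraMap

/-- The node model of unit thickness is smooth. -/
theorem smooth_node_of_isUnit {a : A} (ha : IsUnit a) : Smooth (_root_.StrictSS.nodeToBase A a) := by
  classical
  let φ := Ideal.Quotient.mkₐ A (Ideal.span {(X 0 * X 1 - C a : MvPolynomial (Fin 2) A)})
  let g := fun _ : Fin 1 => (X 0 * X 1 - C a : MvPolynomial (Fin 2) A)
  have hu : IsUnit (φ (1 * (Matrix.of fun i j => pderiv ((fun _ : Fin 1 => (1 : Fin 2)) j) (g i)).det)) := by
    have h1 : φ (1 * (Matrix.of fun i j => pderiv ((fun _ : Fin 1 => (1 : Fin 2)) j) (g i)).det) = φ (X 0) := by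
      simp [g, Matrix.det_unique, pderiv_X, Pi.single_apply]
    rw [h1]
    have h2 : φ (X 0) * φ (X 1) = algebraMap A _ a := by
      rw [← map_mul, ← φ.commutes]
      exact Ideal.Quotient.eq.2 (Ideal.mem_span_singleton_self _)
    exact isUnit_of_mul_isUnit_left (h2 ▸ ha.map (algebraMap A _))
  have h := isStandardSmooth_away_minor φ (Ideal.Quotient.mkₐ_surjective A _) g
    (fun _ => Ideal.Quotient.eq_zero_iff_mem.2 (Ideal.subset_span rfl)) 1
    (fun x hx => by rw [one_mul]; exact node_ker A x hx) (fun _ => (1 : Fin 2)) (fun i j _ => Subsingleton.elim i j)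
  have h' : Algebra.IsStandardSmoothOfRelativeDimension 1 A (_root_.StrictSS.NodeAlg A a) :=
    Algebra.IsStandardSmoothOfRelativeDimension.of_algEquiv 1
      ((IsLocalization.atUnit (_root_.StrictSS.NodeAlg A a) (Localization.Away (φ (1 * (Matrix.of fun i j => pderiv ((fun _ : Fin 1 => (1 : Fin 2)) j) (g i)).det))) _ hu).symm.restrictScalars A)
  have : SmoothOfRelativeDimension 1 (_root_.StrictSS.nodeToBase A a) :=
    (HasRingHomProperty.Spec_iff (P := @SmoothOfRelativeDimension 1)).2
      (RingHom.locally_of RingHom.isStandardSmoothOfRelativeDimension_respectsIso _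
        (RingHom.isStandardSmoothOfRelativeDimension_algebraMap 1 |>.2 h'))
  exact SmoothOfRelativeDimension.smooth 1 _

end models

end Groth.PlaneCurve.StrictSS
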